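import Groth.Prelude.Def_DeltaF
import Mathlib.CategoryTheory.Abelian.Refinements
import Mathlib.CategoryTheory.Abelian.Exact
import Mathlib.CategoryTheory.Limits.Shapes.Pullback.PullbackCone

/-!
# Effaceable delta-functors are universal
-/

universe v u v' u'

open CategoryTheory CategoryTheory.Limits DeltaF

namespace Groth.Agent.DeltaFLib

variable {A : Type u} [Category.{v} A] [Abelian A] {B : Type u'} [Category.{v'} B] [Abelian B]

/-- The short complex of a morphism and its cokernel. -/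
noncomputable abbrev cokSeq {X Y : A} (u : X ⟶ Y) : ShortComplex A :=
  ShortComplex.mk u (cokernel.π u) (cokernel.condition u)

lemma cokSeq_shortExact {X Y : A} (u : X ⟶ Y) [Mono u] : (cokSeq u).ShortExact :=
  { exact := ShortComplex.exact_cokernel u
    mono_f := inferInstanceAs (Mono u)
    epi_g := inferInstanceAs (Epi (cokernel.π u)) }

variable (T : CohDeltaFunctor A B ℕ)

lemma epi_δ (S : ShortComplex A) (hS : S.ShortExact) (n : ℕ) (h0 : (T.F (n + 1)).map S.f = 0) :
    Epi (T.δ S hS n (n + 1) rfl) :=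
  (T.exact₁ S hS n (n + 1) rfl).epi_f h0

variable {T} {T' : CohDeltaFunctor A B ℕ}

/-- The factorisation through the connecting morphism of an effacing sequence. -/
noncomputable def descδ (S : ShortComplex A) (hS : S.ShortExact) (n : ℕ)
    (h0 : (T.F (n + 1)).map S.f = 0) (τ : T.F n ⟶ T'.F n) :
    (T.F (n + 1)).obj S.X₁ ⟶ (T'.F (n + 1)).obj S.X₁ :=
  haveI : Epi (ShortComplex.mk _ _ (T.comp_δ S hS n (n + 1) rfl)).g := epi_δ T S hS n h0
  (T.exact₃ S hS n (n + 1) rfl).desc (τ.app S.X₃ ≫ T'.δ S hS n (n + 1) rfl)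
    (show (T.F n).map S.g ≫ τ.app S.X₃ ≫ T'.δ S hS n (n + 1) rfl = 0 by
      rw [NatTrans.naturality_assoc, T'.comp_δ, comp_zero])

lemma descδ_spec (S : ShortComplex A) (hS : S.ShortExact) (n : ℕ)
    (h0 : (T.F (n + 1)).map S.f = 0) (τ : T.F n ⟶ T'.F n) :
    T.δ S hS n (n + 1) rfl ≫ descδ S hS n h0 τ = τ.app S.X₃ ≫ T'.δ S hS n (n + 1) rfl :=
  haveI : Epi (ShortComplex.mk _ _ (T.comp_δ S hS n (n + 1) rfl)).g := epi_δ T S hS n h0
  (T.exact₃ S hS n (n + 1) rfl).g_desc _ _

variable (hT : T.IsEffaceable) (n : ℕ) (τ : T.F n ⟶ T'.F n)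

/-- The target of a chosen effacing monomorphism. -/
noncomputable def effObj (X : A) : A := (hT n X).choose

/-- A chosen effacing monomorphism. -/
noncomputable def eff (X : A) : X ⟶ effObj hT n X := (hT n X).choose_spec.choose

instance eff_mono (X : A) : Mono (eff hT n X) := (hT n X).choose_spec.choose_spec.1

lemma eff_zero (X : A) : (T.F (n + 1)).map (eff hT n X) = 0 := (hT n X).choose_spec.choose_spec.2

/-- The component in degree `n + 1` forced by the component in degree `n`. -/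
noncomputable def stepApp (X : A) : (T.F (n + 1)).obj X ⟶ (T'.F (n + 1)).obj X :=
  descδ (cokSeq (eff hT n X)) (cokSeq_shortExact _) n (eff_zero hT n X) τ

lemma step_key (S : ShortComplex A) (hS : S.ShortExact) {X : A} (f : S.X₁ ⟶ X) :
    T.δ S hS n (n + 1) rfl ≫ (T.F (n + 1)).map f ≫ stepApp hT n τ X =
      τ.app S.X₃ ≫ T'.δ S hS n (n + 1) rfl ≫ (T'.F (n + 1)).map f := by
  have : Mono S.f := hS.mono_f
  have : Epi S.g := hS.epi_g
  let u := eff hT n X
  let P := pushout (f ≫ u) S.f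
  let u₂ : X ⟶ P := u ≫ pushout.inl (f ≫ u) S.f
  have h₂ : (cokSeq u₂).ShortExact := cokSeq_shortExact u₂
  have h0 : (T.F (n + 1)).map u₂ = 0 := by
    rw [Functor.map_comp]; exact (eff_zero hT n X).symm ▸ zero_comp
  let a : cokSeq u ⟶ cokSeq u₂ :=
    { τ₁ := 𝟙 X
      τ₂ := pushout.inl (f ≫ u) S.f
      τ₃ := cokernel.desc u (pushout.inl (f ≫ u) S.f ≫ cokernel.π u₂)
        (by rw [← Category.assoc]; exact cokernel.condition u₂)
      comm₁₂ := Category.id_comp _
      comm₂₃ := (cokernel.π_desc _ _ _).symm }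
  have hcomm : f ≫ u₂ = S.f ≫ pushout.inr (f ≫ u) S.f := by
    simp only [u₂]; rw [← Category.assoc]; exact pushout.condition
  let k : S.X₃ ⟶ cokernel u₂ := hS.exact.desc (pushout.inr (f ≫ u) S.f ≫ cokernel.π u₂)
    (by rw [← Category.assoc, ← hcomm, Category.assoc, cokernel.condition, comp_zero])
  let b : S ⟶ cokSeq u₂ :=
    { τ₁ := f
      τ₂ := pushout.inr (f ≫ u) S.f
      τ₃ := k
      comm₁₂ := hcomm
      comm₂₃ := (hS.exact.g_desc _ _).symm }
  have hψ : descδ (cokSeq u₂) h₂ n h0 τ = stepApp hT n τ X := by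
    have := epi_δ T (cokSeq u) (cokSeq_shortExact _) n (eff_zero hT n X)
    have e₁ : (T.F n).map a.τ₃ ≫ T.δ _ h₂ n (n + 1) rfl = T.δ _ (cokSeq_shortExact u) n (n + 1) rfl := by
      rw [T.δ_natural (cokSeq_shortExact u) h₂ a]
      exact (congrArg _ ((T.F (n + 1)).map_id X)).trans (Category.comp_id _)
    have e₂ : (T'.F n).map a.τ₃ ≫ T'.δ _ h₂ n (n + 1) rfl = T'.δ _ (cokSeq_shortExact u) n (n + 1) rfl := by
      rw [T'.δ_natural (cokSeq_shortExact u) h₂ a]
      exact (congrArg _ ((T'.F (n + 1)).map_id X)).trans (Category.comp_id _)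
    rw [← cancel_epi (T.δ (cokSeq u) (cokSeq_shortExact _) n (n + 1) rfl)]
    conv_lhs => rw [← e₁, Category.assoc, descδ_spec, NatTrans.naturality_assoc, e₂]
    exact (descδ_spec (cokSeq u) (cokSeq_shortExact _) n (eff_zero hT n X) τ).symm
  have hd := descδ_spec (cokSeq u₂) h₂ n h0 τ
  rw [hψ] at hd
  calc T.δ S hS n (n + 1) rfl ≫ (T.F (n + 1)).map f ≫ stepApp hT n τ X
      = ((T.F n).map k ≫ T.δ _ h₂ n (n + 1) rfl) ≫ stepApp hT n τ X := by
        rw [← Category.assoc]; exact congrArg (· ≫ _) (T.δ_natural hS h₂ b n (n + 1) rfl).symm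
    _ = (T.F n).map k ≫ τ.app _ ≫ T'.δ _ h₂ n (n + 1) rfl := by rw [Category.assoc, hd]
    _ = τ.app S.X₃ ≫ (T'.F n).map k ≫ T'.δ _ h₂ n (n + 1) rfl := NatTrans.naturality_assoc τ _ _
    _ = τ.app S.X₃ ≫ T'.δ S hS n (n + 1) rfl ≫ (T'.F (n + 1)).map f :=
        congrArg (τ.app S.X₃ ≫ ·) (T'.δ_natural hS h₂ b n (n + 1) rfl)

/-- The natural transformation in degree `n + 1` forced by the one in degree `n`. -/
noncomputable def stepNat : T.F (n + 1) ⟶ T'.F (n + 1) where
  app := stepApp hT n τ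
  naturality X X' f := by
    have := epi_δ T (cokSeq (eff hT n X)) (cokSeq_shortExact _) n (eff_zero hT n X)
    rw [← cancel_epi (T.δ (cokSeq (eff hT n X)) (cokSeq_shortExact _) n (n + 1) rfl)]
    refine (step_key hT n τ (cokSeq (eff hT n X)) (cokSeq_shortExact _) f).trans ?_
    exact ((reassoc_of% (descδ_spec (cokSeq (eff hT n X)) (cokSeq_shortExact _) n
      (eff_zero hT n X) τ)) ((T'.F (n + 1)).map f)).symm

lemma stepNat_comm (S : ShortComplex A) (hS : S.ShortExact) :
    T.δ S hS n (n + 1) rfl ≫ (stepNat hT n τ).app S.X₁ = τ.app S.X₃ ≫ T'.δ S hS n (n + 1) rfl := by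
  have := step_key hT n τ S hS (𝟙 S.X₁)
  simpa [stepNat] using this

/-- The natural transformations in all degrees forced by the one in degree `0`. -/
noncomputable def extNat (t : T.F 0 ⟶ T'.F 0) : ∀ n, T.F n ⟶ T'.F n
  | 0 => t
  | n + 1 => stepNat hT n (extNat t n)

/-- The extension of a natural transformation in degree `0` to a morphism of delta-functors. -/
noncomputable def extHom (t : T.F 0 ⟶ T'.F 0) : T ⟶ T' :=
  show CohDeltaFunctor.Hom T T' from
  { app := extNat hT t
    comm := fun S hS n₀ n₁ h => by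
      subst h
      exact stepNat_comm hT n₀ (extNat hT t n₀) S hS }

include hT in
lemma hom_ext_zero {f g : T ⟶ T'} (h : f.app 0 = g.app 0) : f = g := by
  refine CohDeltaFunctor.hom_ext fun n => ?_
  induction n with
  | zero => exact h
  | succ n ih =>
    ext X
    have := epi_δ T (cokSeq (eff hT n X)) (cokSeq_shortExact _) n (eff_zero hT n X)
    have hf := f.comm (cokSeq (eff hT n X)) (cokSeq_shortExact _) n (n + 1) rfl
    have hg := g.comm (cokSeq (eff hT n X)) (cokSeq_shortExact _) n (n + 1) rfl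
    rw [ih] at hf
    exact (cancel_epi (T.δ (cokSeq (eff hT n X)) (cokSeq_shortExact _) n (n + 1) rfl)).1
      (hf.trans hg.symm)

include hT in
theorem isUniversal : T.IsUniversal :=
  fun T' t => ⟨extHom hT t, rfl, fun _ hg => hom_ext_zero hT (by rw [hg]; rfl)⟩

include hT in
/-- If the component in degree `n` is an isomorphism then the next one is a monomorphism. -/
lemma mono_app_succ (φ : T ⟶ T') [IsIso (φ.app n)] : Mono (φ.app (n + 1)) := by
  have : ∀ X, Mono ((φ.app (n + 1)).app X) := fun X => by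
    let S := cokSeq (eff hT n X)
    have hS : S.ShortExact := cokSeq_shortExact _
    have := epi_δ T S hS n (eff_zero hT n X)
    refine Preadditive.mono_of_cancel_zero _ fun {W} a ha => ?_
    obtain ⟨W₁, π₁, _, q, hq⟩ := surjective_up_to_refinements_of_epi (T.δ S hS n (n + 1) rfl) a
    have hz : (q ≫ (φ.app n).app S.X₃) ≫ T'.δ S hS n (n + 1) rfl = 0 := by
      rw [Category.assoc, ← φ.comm S hS n (n + 1) rfl, ← Category.assoc, ← hq, Category.assoc]
      exact (congrArg (π₁ ≫ ·) ha).trans comp_zero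
    obtain ⟨W₂, π₂, _, y, hy⟩ := (T'.exact₃ S hS n (n + 1) rfl).exact_up_to_refinements _ hz
    have hy' : π₂ ≫ q = (y ≫ inv ((φ.app n).app S.X₂)) ≫ (T.F n).map S.g := by
      rw [← cancel_mono ((φ.app n).app S.X₃)]
      simp only [Category.assoc, NatTrans.naturality, IsIso.inv_hom_id_assoc]
      exact hy
    rw [← cancel_epi π₁, ← cancel_epi π₂, hq, ← Category.assoc, hy', Category.assoc, T.comp_δ,
      comp_zero, comp_zero, comp_zero]
  exact NatTrans.mono_of_mono_app _

/-- Epimorphy propagates upwards where the target is effaceable. -/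
lemma epi_app_succ (φ : T ⟶ T') [Epi (φ.app n)]
    (hT' : ∀ X : A, ∃ (Y : A) (u : X ⟶ Y), Mono u ∧ (T'.F (n + 1)).map u = 0) :
    Epi (φ.app (n + 1)) := by
  have : ∀ X, Epi ((φ.app (n + 1)).app X) := fun X => by
    obtain ⟨Y, u, hu, hu0⟩ := hT' X
    let S := cokSeq u
    have hS : S.ShortExact := cokSeq_shortExact _
    have := epi_δ T' S hS n hu0
    have : Epi (T.δ S hS n (n + 1) rfl ≫ (φ.app (n + 1)).app S.X₁) := by
      rw [φ.comm S hS n (n + 1) rfl]
      have : Epi ((φ.app n).app S.X₃) := inferInstanceAs (Epi (((evaluation A B).obj S.X₃).map (φ.app n)))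
      exact epi_comp _ _
    exact epi_of_epi (T.δ S hS n (n + 1) rfl) ((φ.app (n + 1)).app S.X₁)
  exact NatTrans.epi_of_epi_app _

end Groth.Agent.DeltaFLib
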