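import Groth.Prelude.Def_DeltaF
import Mathlib.Algebra.Category.Grp.Ulift
import Mathlib.Algebra.Category.Grp.FilteredColimits
import Mathlib.Algebra.Homology.ShortComplex.Ab
import Mathlib.CategoryTheory.Limits.Preserves.Filtered

/-!
# When is a morphism of delta-functors an isomorphism: element chases
-/

universe w v u

open CategoryTheory CategoryTheory.Limits

namespace Groth.Agent.DeltaFLib

section colimit

variable {J : Type v} [SmallCategory J] [IsFiltered J] {K : J ⥤ AddCommGrpCat.{w}}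

theorem jointly_surjective {c : Cocone K} (hc : IsColimit c) (x : c.pt) :
    ∃ (j : J) (y : K.obj j), c.ι.app j y = x := by
  haveI : PreservesFilteredColimitsOfSize.{v, v} (forget AddCommGrpCat.{max w v}) :=
    preservesFilteredColimitsOfSize_of_univLE.{max w v, max w v, v, v} _
  have h := isColimitOfPreserves (AddCommGrpCat.uliftFunctor.{v, w} ⋙ forget AddCommGrpCat.{max w v}) hc
  obtain ⟨j, y, hy⟩ := Types.jointly_surjective_of_isColimit h (ULift.up x)
  exact ⟨j, y.down, congrArg ULift.down hy⟩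

theorem exists_eq_zero {c : Cocone K} (hc : IsColimit c) {j : J} (y : K.obj j) (hy : c.ι.app j y = 0) :
    ∃ (k : J) (f : j ⟶ k), K.map f y = 0 := by
  haveI : PreservesFilteredColimitsOfSize.{v, v} (forget AddCommGrpCat.{max w v}) :=
    preservesFilteredColimitsOfSize_of_univLE.{max w v, max w v, v, v} _
  have h := isColimitOfPreserves (AddCommGrpCat.uliftFunctor.{v, w} ⋙ forget AddCommGrpCat.{max w v}) hc
  have e : ((AddCommGrpCat.uliftFunctor.{v, w} ⋙ forget AddCommGrpCat.{max w v}).mapCocone c).ι.app j (ULift.up y) =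
      ((AddCommGrpCat.uliftFunctor.{v, w} ⋙ forget AddCommGrpCat.{max w v}).mapCocone c).ι.app j (ULift.up 0) := by
    apply ULift.ext
    change c.ι.app j y = c.ι.app j 0
    rw [hy, map_zero]
  obtain ⟨k, f, g, hfg⟩ := (Types.FilteredColimit.isColimit_eq_iff _ h).1 e
  refine ⟨k, f, ?_⟩
  have h2 : K.map f y = K.map g 0 := congrArg ULift.down hfg
  rw [h2, map_zero]

theorem injective_of_cocone {C : Type u} [Category.{v} C] {F G : C ⥤ AddCommGrpCat.{w}} {L : J ⥤ C}
    {c : Cocone L} (hF : IsColimit (F.mapCocone c)) (hG : IsColimit (G.mapCocone c)) (η : F ⟶ G)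
    (h : ∀ j, Function.Injective (η.app (L.obj j))) : Function.Injective (η.app c.pt) := by
  rw [injective_iff_map_eq_zero]
  intro x hx
  obtain ⟨j, y, rfl⟩ := jointly_surjective hF x
  have hy : (G.mapCocone c).ι.app j (η.app (L.obj j) y) = 0 := by
    rw [← hx]; exact (ConcreteCategory.congr_hom (η.naturality (c.ι.app j)) y).symm
  obtain ⟨k, f, hk⟩ := exists_eq_zero hG _ hy
  have h2 : F.map (L.map f) y = 0 := h k (by
    rw [map_zero]; exact (ConcreteCategory.congr_hom (η.naturality (L.map f)) y).trans hk)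
  have h3 : (F.mapCocone c).ι.app j y = (F.mapCocone c).ι.app k (F.map (L.map f) y) :=
    (ConcreteCategory.congr_hom ((F.mapCocone c).w f) y).symm
  rw [h3, h2, map_zero]

theorem surjective_of_cocone {C : Type u} [Category.{v} C] {F G : C ⥤ AddCommGrpCat.{w}} {L : J ⥤ C}
    {c : Cocone L} (hG : IsColimit (G.mapCocone c)) (η : F ⟶ G)
    (h : ∀ j, Function.Surjective (η.app (L.obj j))) : Function.Surjective (η.app c.pt) := by
  intro x
  obtain ⟨j, y, rfl⟩ := jointly_surjective hG x
  obtain ⟨z, rfl⟩ := h j y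
  exact ⟨F.map (c.ι.app j) z, ConcreteCategory.congr_hom (η.naturality (c.ι.app j)) z⟩

end colimit

variable {C : Type u} [Category.{v} C] [Abelian C]
  {T T' : DeltaF.CohDeltaFunctor C AddCommGrpCat.{w} ℕ} (φ : T ⟶ T')

/-- the short exact sequence of a monomorphism -/
theorem ses_of_mono {A M : C} (i : A ⟶ M) [Mono i] :
    (ShortComplex.mk i (cokernel.π i) (cokernel.condition i)).ShortExact :=
  { exact := ShortComplex.exact_of_g_is_cokernel _ (cokernelIsCokernel i) }

theorem natural_apply (q : ℕ) {A B : C} (f : A ⟶ B) (x : (T.F q).obj A) :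
    (φ.app q).app B ((T.F q).map f x) = (T'.F q).map f ((φ.app q).app A x) :=
  ConcreteCategory.congr_hom ((φ.app q).naturality f) x

theorem comm_apply (S : ShortComplex C) (hS : S.ShortExact) (q : ℕ) (x : (T.F q).obj S.X₃) :
    (φ.app (q + 1)).app S.X₁ (T.δ S hS q (q + 1) rfl x) = T'.δ S hS q (q + 1) rfl ((φ.app q).app S.X₃ x) :=
  ConcreteCategory.congr_hom (φ.comm S hS q (q + 1) rfl) x

theorem exact₂_apply (T : DeltaF.CohDeltaFunctor C AddCommGrpCat.{w} ℕ) (S : ShortComplex C)
    (hS : S.ShortExact) (q : ℕ) (x : (T.F q).obj S.X₂) (hx : (T.F q).map S.g x = 0) :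
    ∃ a, (T.F q).map S.f a = x :=
  (ShortComplex.ab_exact_iff _).1 (T.exact₂ S hS q) x hx

theorem exact₁_apply (T : DeltaF.CohDeltaFunctor C AddCommGrpCat.{w} ℕ) (S : ShortComplex C)
    (hS : S.ShortExact) (q : ℕ) (x : (T.F (q + 1)).obj S.X₁) (hx : (T.F (q + 1)).map S.f x = 0) :
    ∃ c, T.δ S hS q (q + 1) rfl c = x :=
  (ShortComplex.ab_exact_iff _).1 (T.exact₁ S hS q (q + 1) rfl) x hx

theorem exact₃_apply (T : DeltaF.CohDeltaFunctor C AddCommGrpCat.{w} ℕ) (S : ShortComplex C)
    (hS : S.ShortExact) (q : ℕ) (c : (T.F q).obj S.X₃) (hc : T.δ S hS q (q + 1) rfl c = 0) :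
    ∃ m, (T.F q).map S.g m = c :=
  (ShortComplex.ab_exact_iff _).1 (T.exact₃ S hS q (q + 1) rfl) c hc

theorem comp_δ_apply (T : DeltaF.CohDeltaFunctor C AddCommGrpCat.{w} ℕ) (S : ShortComplex C)
    (hS : S.ShortExact) (q : ℕ) (m : (T.F q).obj S.X₂) :
    T.δ S hS q (q + 1) rfl ((T.F q).map S.g m) = 0 :=
  ConcreteCategory.congr_hom (T.comp_δ S hS q (q + 1) rfl) m

theorem zeroMono_injective {T : DeltaF.CohDeltaFunctor C AddCommGrpCat.{w} ℕ} (hT : T.ZeroMono)
    (S : ShortComplex C) (hS : S.ShortExact) : Function.Injective ((T.F 0).map S.f) :=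
  (AddCommGrpCat.mono_iff_injective _).1 (hT S hS)

theorem map_g_f (T : DeltaF.CohDeltaFunctor C AddCommGrpCat.{w} ℕ) (S : ShortComplex C) (q : ℕ)
    (x : (T.F q).obj S.X₁) : (T.F q).map S.g ((T.F q).map S.f x) = 0 := by
  rw [← ConcreteCategory.comp_apply, ← Functor.map_comp, S.zero, Functor.map_zero]; rfl

/-- injectivity in degree zero from a mono into an object where `φ` is injective -/
theorem inj_zero (hT : T.ZeroMono) {A M : C} (i : A ⟶ M) [Mono i]
    (hM : Function.Injective ((φ.app 0).app M)) : Function.Injective ((φ.app 0).app A) := by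
  intro a b h
  refine zeroMono_injective hT _ (ses_of_mono i) (hM ?_)
  exact (natural_apply φ 0 i a).trans ((congrArg ((T'.F 0).map i) h).trans (natural_apply φ 0 i b).symm)

/-- surjectivity in degree zero -/
theorem surj_zero (hT' : T'.ZeroMono) {A M : C} (i : A ⟶ M) [Mono i]
    (hM : Function.Surjective ((φ.app 0).app M))
    (hC : Function.Injective ((φ.app 0).app (cokernel i))) : Function.Surjective ((φ.app 0).app A) := by
  intro y
  obtain ⟨z, hz⟩ := hM ((T'.F 0).map i y)
  have hgz : (T.F 0).map (cokernel.π i) z = 0 := by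
    refine hC ?_
    rw [map_zero, natural_apply, hz, ← ConcreteCategory.comp_apply, ← Functor.map_comp, cokernel.condition,
      Functor.map_zero]
    rfl
  obtain ⟨x, hx⟩ := exact₂_apply T _ (ses_of_mono i) 0 z hgz
  refine ⟨x, zeroMono_injective hT' _ (ses_of_mono i) ?_⟩
  exact ((natural_apply φ 0 i x).symm.trans (congrArg _ hx)).trans hz

/-- injectivity in a positive degree for a class killed by a monomorphism -/
theorem eq_zero_of_killed (q : ℕ) {A M : C} (i : A ⟶ M) [Mono i]
    (hC : Function.Injective ((φ.app q).app (cokernel i)))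
    (hM : Function.Surjective ((φ.app q).app M))
    (α : (T.F (q + 1)).obj A) (hiα : (T.F (q + 1)).map i α = 0)
    (hα : (φ.app (q + 1)).app A α = 0) : α = 0 := by
  have hS := ses_of_mono i
  obtain ⟨c, rfl⟩ := exact₁_apply T _ hS q α hiα
  obtain ⟨m', hm'⟩ := exact₃_apply T' _ hS q _ ((comm_apply φ _ hS q c).symm.trans hα)
  obtain ⟨m, rfl⟩ := hM m'
  have : (T.F q).map (cokernel.π i) m = c := hC ((natural_apply φ q _ m).trans hm')
  rw [← this]
  exact comp_δ_apply T _ hS q m

/-- surjectivity in a positive degree -/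
theorem surj_succ (q : ℕ) {A M : C} (i : A ⟶ M) [Mono i]
    (hC : Function.Injective ((φ.app (q + 1)).app (cokernel i)))
    (hC' : Function.Surjective ((φ.app q).app (cokernel i)))
    (hM : Function.Surjective ((φ.app (q + 1)).app M)) : Function.Surjective ((φ.app (q + 1)).app A) := by
  intro y
  have hS := ses_of_mono i
  obtain ⟨z, hz⟩ := hM ((T'.F (q + 1)).map i y)
  have hgz : (T.F (q + 1)).map (cokernel.π i) z = 0 := by
    refine hC ?_
    rw [map_zero, natural_apply, hz, ← ConcreteCategory.comp_apply, ← Functor.map_comp, cokernel.condition,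
      Functor.map_zero]
    rfl
  obtain ⟨x, hx⟩ := exact₂_apply T _ hS (q + 1) z hgz
  have h0 : (T'.F (q + 1)).map i (y - (φ.app (q + 1)).app A x) = 0 := by
    rw [map_sub, ← natural_apply]
    exact sub_eq_zero.2 (hz.symm.trans (congrArg _ hx.symm))
  obtain ⟨c', hc'⟩ := exact₁_apply T' _ hS q _ h0
  obtain ⟨c, rfl⟩ := hC' c'
  refine ⟨x + T.δ _ hS q (q + 1) rfl c, ?_⟩
  exact (map_add _ _ _).trans ((congrArg (_ + ·) ((comm_apply φ _ hS q c).trans hc')).trans (add_sub_cancel _ _))

theorem isIso_iff_bij {q : ℕ} {A : C} :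
    IsIso ((φ.app q).app A) ↔ Function.Bijective ((φ.app q).app A) :=
  ConcreteCategory.isIso_iff_bijective _

end Groth.Agent.DeltaFLib
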